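import Cfsg.Agent.H617.Pb.Defs
import Cfsg.Agent.H735.S4822.Orb
import Cfsg.Agent.H261.KB.Ker
import Cfsg.Agent.H546.KB.Three
import Cfsg.Agent.H270.KB.Arith
import Cfsg.Agent.H96.KB.Hull
import Cfsg.Agent.H583.Pb.RowPrime

/-!
# S4822: the criterion with a large normal subgroup `L` instead of the hull (helper617)

`S ≤ L`, `A / L` abelian, `μ = orb M S L` the number of `L`-orbits on the irreducible characters of `B₀(S)`.
With `a = |A : L hull|`: `a ≤ ker`, `μ - 1 ≤ a (κ - 1)`.
-/

set_option autoImplicit false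
set_option linter.unusedSectionVars false

open Cfsg Subgroup
open Cfsg.Agent.H508.KB (kB kap ker hull Good GoodN orbSetoid)

namespace Cfsg.Agent.H617.Pb

open Cfsg.Agent.Blocks Cfsg.Agent.Blocks.Local Cfsg.Agent.Characters.Core

universe u v

section normal

variable {p : ℕ} [Fact p.Prime] {M : Ideal AlgInt} {A : Type u} [Group A] [Finite A] (S : Subgroup A) [hS : S.Normal]

/-- the relation defining `orb` -/
def orel (M : Ideal AlgInt) (S L : Subgroup A) (θ θ' : ↥(principalBlock M ↥S)) : Prop :=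
  ∃ c ∈ L, ∀ x y : ↥S, (y : A) = c * x * c⁻¹ →
      ((θ' : IrrCharacter ↥S) : ↥S → ℂ) y = ((θ : IrrCharacter ↥S) : ↥S → ℂ) x

theorem orel_iff {L : Subgroup A} {θ θ' : ↥(principalBlock M ↥S)} :
    orel M S L θ θ' ↔ ∃ c ∈ L, Covering.conjIrr S c θ'.1 = θ.1 := by
  constructor
  · rintro ⟨c, hc, h⟩
    refine ⟨c, hc, Subtype.ext (funext fun x => ?_)⟩
    rw [Covering.conjIrr_apply]
    exact h x (MulAut.conjNormal c x) (MulAut.conjNormal_apply c x)
  · rintro ⟨c, hc, h⟩
    refine ⟨c, hc, fun x y hxy => ?_⟩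
    rw [← h, Covering.conjIrr_apply]
    exact congrArg (θ'.1 : ↥S → ℂ) (Subtype.ext (hxy.trans (MulAut.conjNormal_apply c x).symm))

theorem card_quot_le_mul (hM : IsPModular p M) (hcop : ¬ p ∣ S.index) (L : Subgroup A)
    (hcomm : ∀ a b : A, a * b * a⁻¹ * b⁻¹ ∈ L) (L' : Subgroup A) (hL' : L' = L ⊔ hull p S)
    (Q₀ : Finset (Quotient (orbSetoid M S))) (hQ₀ : ∀ θ : ↥(principalBlock M ↥S), Quotient.mk (orbSetoid M S) θ ∈ Q₀ →
      ∀ g : A, Covering.conjIrr S g θ.1 = θ.1) :
    orb M S L ≤ L'.index * (kap M S - Q₀.card) + Q₀.card := by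
  classical
  have hfin2 : Finite (IrrCharacter ↥S) := finite_irr
  have hfin3 : Finite (Quotient (orbSetoid M S)) := Finite.of_surjective _ Quotient.mk_surjective
  have hfq : Fintype (Quotient (orbSetoid M S)) := Fintype.ofFinite _
  obtain ⟨P⟩ : Nonempty (Sylow p A) := inferInstance
  have hP := H735.S4822.sylow_le S hcop P
  have hconj : ∀ (g : A) {ψ : IrrCharacter S}, ψ ∈ principalBlock M S →
      Covering.conjIrr S g ψ ∈ principalBlock M S :=
    fun g _ h => H611.CoverPrincipal.conjIrr_mem_principalBlock S g h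
  have hhull : ∀ c ∈ hull p S, ∀ θ ∈ principalBlock M ↥S, Covering.conjIrr S c θ = θ := fun c hc θ hθ =>
    H735.S4822.conjIrr_eq hM S hcop P (H261.KB.Ker.hull_le S P hP hc) hθ
  let X := {q : Quotient (orbSetoid M S) // q ∉ Q₀}
  let T := (A ⧸ L') × X ⊕ Q₀
  let F : T → Quot (orel M S L) := Sum.elim
    (fun z => Quot.mk _ ⟨Covering.conjIrr S z.1.out z.2.1.out.1, hconj _ z.2.1.out.2⟩)
    (fun z => Quot.mk _ z.1.out)
  have hF : Function.Surjective F := by
    intro x
    induction x using Quot.ind with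
    | mk θ =>
      obtain ⟨g, hg⟩ : ∃ g : A, Covering.conjIrr S g (Quotient.mk (orbSetoid M S) θ).out.1 = θ.1 := by
        obtain ⟨g, hg⟩ := Quotient.exact (Quotient.out_eq (Quotient.mk (orbSetoid M S) θ))
        exact ⟨g, Subtype.ext (funext fun s => (hg s).symm)⟩
      by_cases hθ : Quotient.mk (orbSetoid M S) θ ∈ Q₀
      · refine ⟨Sum.inr ⟨_, hθ⟩, ?_⟩
        show Quot.mk _ (Quotient.mk (orbSetoid M S) θ).out = _
        congr 1
        apply Subtype.ext
        rw [← hg, hQ₀ _ (by rw [Quotient.out_eq]; exact hθ) g]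
      · refine ⟨Sum.inl (QuotientGroup.mk g, ⟨_, hθ⟩), ?_⟩
        obtain ⟨k, hk⟩ := QuotientGroup.mk_out_eq_mul L' g
        obtain ⟨k, hkL⟩ := k
        replace hk : (QuotientGroup.mk g : A ⧸ L').out = g * k := hk
        -- `L'` is normal: it contains the commutators
        have hcL' : ∀ a b : A, a * b * a⁻¹ * b⁻¹ ∈ L' := fun a b => by
          rw [hL']
          exact mem_sup_left (hcomm a b)
        have hLn : L.Normal := ⟨fun n hn g => by
          have h1 := mul_mem (hcomm g n) hn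
          rwa [inv_mul_cancel_right] at h1⟩
        have hk2 : g * k * g⁻¹ ∈ L ⊔ hull p S := by
          rw [← hL']
          have h1 := mul_mem (hcL' g k) hkL
          rwa [inv_mul_cancel_right] at h1
        obtain ⟨l, hl, c, hc, hlc⟩ := mem_sup_of_normal_left.1 hk2
        apply Quot.sound
        rw [orel_iff]
        -- `(out) = l c g`
        set ψ := (Quotient.mk (orbSetoid M S) θ).out with hψ
        have e1 : (QuotientGroup.mk g : A ⧸ L').out = l * c * g := by
          rw [hk, hlc]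
          group
        refine ⟨g⁻¹ * (l * g), ?_, ?_⟩
        · have h1 := hLn.conj_mem l hl g⁻¹
          rwa [inv_inv, mul_assoc] at h1
        · show Covering.conjIrr S (g⁻¹ * (l * g)) θ.1 = Covering.conjIrr S (QuotientGroup.mk g : A ⧸ L').out ψ.1
          rw [← hg, Covering.conjIrr_conjIrr, mul_inv_cancel_left, e1]
          have h2 : Covering.conjIrr S (l * g) ψ.1 = Covering.conjIrr S g (Covering.conjIrr S l ψ.1) :=
            (Covering.conjIrr_conjIrr S _ _ _).symm
          have h3 : Covering.conjIrr S (l * c * g) ψ.1 =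
              Covering.conjIrr S g (Covering.conjIrr S c (Covering.conjIrr S l ψ.1)) := by
            rw [Covering.conjIrr_conjIrr, Covering.conjIrr_conjIrr, mul_assoc]
          rw [h2, h3, hhull c hc _ (hconj _ ψ.2)]
  have h := Nat.card_le_card_of_surjective F hF
  have hX : Nat.card X = kap M S - Q₀.card := by
    have h1 := Fintype.card_subtype_compl (fun q : Quotient (orbSetoid M S) => q ∈ Q₀)
    rw [Nat.card_eq_fintype_card, kap, Nat.card_eq_fintype_card]
    rw [Fintype.card_coe] at h1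
    exact h1
  have hT : Nat.card T = L'.index * (kap M S - Q₀.card) + Q₀.card := by
    rw [Nat.card_sum, Nat.card_prod, ← Subgroup.index_eq_card, hX, Nat.card_eq_fintype_card (α := Q₀), Fintype.card_coe]
  rw [hT] at h
  exact h

theorem index_le_ker (hM : IsPModular p M) (hcop : ¬ p ∣ S.index) (L : Subgroup A)
    (hcomm : ∀ a b : A, a * b * a⁻¹ * b⁻¹ ∈ L) : (L ⊔ hull p S).index ≤ ker M S := by
  classical
  obtain ⟨P⟩ : Nonempty (Sylow p ↥S) := inferInstance
  have hn : (hull p S).Normal := (H96.KB.Hull.hull_eq S hcop P).2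
  rw [H261.KB.Ker.ker_eq S hM hcop]
  have hLn : (L ⊔ hull p S).Normal := ⟨fun n hn g => by
    have h1 := mul_mem ((le_sup_left : L ≤ L ⊔ hull p S) (hcomm g n)) hn
    rwa [inv_mul_cancel_right] at h1⟩
  rw [Subgroup.index_eq_card]
  let f : A ⧸ hull p S →* A ⧸ (L ⊔ hull p S) :=
    QuotientGroup.map _ _ (MonoidHom.id A) (le_sup_right : hull p S ≤ L ⊔ hull p S)
  have hf : Function.Surjective f := by
    intro x
    obtain ⟨a, rfl⟩ := QuotientGroup.mk_surjective x
    exact ⟨QuotientGroup.mk a, rfl⟩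
  have hab : ∀ x y : A ⧸ (L ⊔ hull p S), x * y = y * x := by
    intro x y
    obtain ⟨a, rfl⟩ := QuotientGroup.mk_surjective x
    obtain ⟨b, rfl⟩ := QuotientGroup.mk_surjective y
    have h1 : ((a * b * a⁻¹ * b⁻¹ : A) : A ⧸ (L ⊔ hull p S)) = 1 :=
      (QuotientGroup.eq_one_iff _).2 (mem_sup_left (hcomm a b))
    simp only [QuotientGroup.mk_mul, QuotientGroup.mk_inv] at h1
    exact mul_inv_eq_iff_eq_mul.1 (mul_inv_eq_one.1 h1)
  let g : ConjClasses (A ⧸ hull p S) → A ⧸ (L ⊔ hull p S) := fun c => Quotient.liftOn c f (by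
    intro a b hab'
    obtain ⟨c, rfl⟩ := isConj_iff.1 hab'
    rw [map_mul, map_mul, hab (f c), mul_assoc, map_inv, mul_inv_cancel, mul_one])
  refine Nat.card_le_card_of_surjective g fun x => ?_
  obtain ⟨y, rfl⟩ := hf x
  exact ⟨ConjClasses.mk y, rfl⟩

theorem card_le_one (hM : IsPModular p M) : 1 ≤ kap M S := by
  have hfin2 : Finite (IrrCharacter ↥S) := finite_irr
  have hfin3 : Finite (Quotient (orbSetoid M S)) := Finite.of_surjective _ Quotient.mk_surjective
  have hMp : M.IsPrime := isPrime_of_isPModular hM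
  have : Nonempty (Quotient (orbSetoid M S)) := ⟨Quotient.mk _ ⟨_, PrincipalSection.one_mem_principalBlock⟩⟩
  exact Nat.card_pos

/-- **the criterion** -/
theorem good_of_orb (hM : IsPModular p M) (hcop : ¬ p ∣ S.index) (L : Subgroup A)
    (hcomm : ∀ a b : A, a * b * a⁻¹ * b⁻¹ ∈ L) (h : p ≤ orb M S L) : Good M S p := by
  classical
  have h1 := index_le_ker S hM hcop L hcomm
  have hκ := card_le_one S hM
  have hMp : M.IsPrime := isPrime_of_isPModular hM
  set t : ↥(principalBlock M ↥S) := ⟨_, PrincipalSection.one_mem_principalBlock⟩ with ht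
  have h2 := card_quot_le_mul S hM hcop L hcomm _ rfl {Quotient.mk _ t} (by
    intro θ hθ g
    rw [Finset.mem_singleton] at hθ
    obtain ⟨a, ha⟩ := Quotient.exact hθ
    have h3 : ∀ s : ↥S, (θ.1 : ↥S → ℂ) s = 1 := by
      intro s
      have h4 := ha ((MulAut.conjNormal a).symm s)
      rw [MulEquiv.apply_symm_apply] at h4
      exact h4.symm
    refine Subtype.ext (funext fun s => ?_)
    rw [Covering.conjIrr_apply, h3, h3])
  rw [Finset.card_singleton] at h2
  refine H270.KB.ar1 ?_ (H546.KB.ker_add_kap_le S hM hcop) hκ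
  have h3 := Nat.mul_le_mul_right (kap M S - 1) h1
  have h4 := h.trans h2
  omega

omit hS in
theorem normal_of_comm (L : Subgroup A) (hcomm : ∀ a b : A, a * b * a⁻¹ * b⁻¹ ∈ L) : L.Normal := ⟨fun n hn g => by
  have h1 := mul_mem (hcomm g n) hn
  rwa [inv_mul_cancel_right] at h1⟩

theorem index_le_irr (L' : Subgroup A) [L'.Normal] (hcomm : ∀ a b : A, a * b * a⁻¹ * b⁻¹ ∈ L') :
    L'.index ≤ Nat.card (IrrCharacter (A ⧸ L')) := by
  classical
  rw [card_irr, Subgroup.index_eq_card]
  have hab : ∀ x y : A ⧸ L', x * y = y * x := by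
    intro x y
    obtain ⟨a, rfl⟩ := QuotientGroup.mk_surjective x
    obtain ⟨b, rfl⟩ := QuotientGroup.mk_surjective y
    have h1 : ((a * b * a⁻¹ * b⁻¹ : A) : A ⧸ L') = 1 :=
      (QuotientGroup.eq_one_iff _).2 (hcomm a b)
    simp only [QuotientGroup.mk_mul, QuotientGroup.mk_inv] at h1
    exact mul_inv_eq_iff_eq_mul.1 (mul_inv_eq_one.1 h1)
  refine Nat.card_le_card_of_injective (fun x : A ⧸ L' => ConjClasses.mk x) fun x y hxy => ?_
  obtain ⟨c, hc⟩ := isConj_iff.1 (ConjClasses.mk_eq_mk_iff_isConj.1 hxy)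
  rw [← hc, hab c, mul_inv_cancel_right]

/-- the characters of `A / L hull`, twice -/
theorem ker_add_index_add_kap_le (hM : IsPModular p M) (hcop : ¬ p ∣ S.index) (L : Subgroup A)
    (hcomm : ∀ a b : A, a * b * a⁻¹ * b⁻¹ ∈ L) (ψ : IrrCharacter A) (hψ : ψ ∈ principalBlock M A)
    (hirr : IsIrrCharacter S (fun s : S => (ψ : A → ℂ) s)) (h1 : ∃ s : S, (ψ : A → ℂ) s ≠ 1) :
    ker M S + (L ⊔ hull p S).index + kap M S ≤ kB M A + 2 := by
  classical
  have hMp : M.IsPrime := isPrime_of_isPModular hM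
  have hfA : Fintype A := Fintype.ofFinite A
  have hfS : Fintype ↥S := Fintype.ofFinite _
  have hfin : Finite (IrrCharacter A) := finite_irr
  set L' : Subgroup A := L ⊔ hull p S with hL'
  have hc' : ∀ a b : A, a * b * a⁻¹ * b⁻¹ ∈ L' := fun a b => mem_sup_left (hcomm a b)
  have hLn : L'.Normal := normal_of_comm L' hc'
  have hfinQ : Finite (IrrCharacter (A ⧸ L')) := finite_irr
  obtain ⟨P⟩ : Nonempty (Sylow p A) := inferInstance
  have hP := H735.S4822.sylow_le S hcop P
  have hSL : S ≤ L' := (le_sup_left : S ≤ hull p S).trans le_sup_right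
  have hidx : ¬ p ∣ L'.index := fun h => hcop (h.trans (Subgroup.index_dvd_of_le hSL))
  have hCL : centralizer ((P : Subgroup A) : Set A) ≤ L' := (H261.KB.Ker.centralizer_le S P hP).trans le_sup_right
  let l : IrrCharacter (A ⧸ L') → IrrCharacter A := fun ξ => H633.Principal.infl L' ξ
  have hlB : ∀ ξ, l ξ ∈ principalBlock M A := fun ξ => H735.S4822.infl_mem hM P L' hCL hidx ξ
  have hlL : ∀ ξ, ∀ s ∈ L', (l ξ : A → ℂ) s = (l ξ : A → ℂ) 1 := by
    intro ξ s hs
    rw [H633.Principal.infl_apply, H633.Principal.infl_apply, (QuotientGroup.eq_one_iff s).2 hs]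
    rfl
  have hlin : ∀ ξ, (l ξ : A → ℂ) 1 = 1 := fun ξ =>
    CharactersDeep.FeitLinear.apply_one_eq_one L' hc' (l ξ).2 (hlL ξ)
  -- the products
  have hprod : ∀ ξ, IsIrrCharacter A ((l ξ : A → ℂ) * (ψ : A → ℂ)) := by
    intro χ
    obtain ⟨ν, hν⟩ := CharactersDeep.LinearExt.exists_hom_of_isCharacter (isIrr_isCharacter (l χ).2) (hlin χ)
    have h2 := CharactersDeep.ExtUnique.isIrr_mul_hom ψ.2 ν
    have h3 : (fun g => (ψ : A → ℂ) g * (ν g : ℂ)) = (l χ : A → ℂ) * (ψ : A → ℂ) := by
      funext g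
      rw [Pi.mul_apply, hν, mul_comm]
    rwa [h3] at h2
  -- the restriction of the products
  have hres : ∀ (ξ : IrrCharacter (A ⧸ L')) (s : ↥S), ((l ξ : A → ℂ) * (ψ : A → ℂ)) s = (ψ : A → ℂ) s := by
    intro ξ s
    rw [Pi.mul_apply, hlL ξ s (hSL s.2), hlin ξ, one_mul]
  -- the restriction of `ψ` is not trivial
  have hψne : ¬ ∀ s ∈ S, (ψ : A → ℂ) s = (ψ : A → ℂ) 1 := by
    intro h
    have h2 : (fun s : ↥S => (ψ : A → ℂ) s) = 1 := by
      refine H546.KB.over_one S (χ := ψ) (θ := ⟨_, hirr⟩) h ?_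
      rw [Cfsg.Agent.H508.KB.over_iff]
      show classInner (fun n : ↥S => (ψ : A → ℂ) n) (fun n : ↥S => (ψ : A → ℂ) n) ≠ 0
      rw [classInner_irr_self hirr]
      exact one_ne_zero
    obtain ⟨s, hs⟩ := h1
    exact hs (congrFun h2 s)
  let F₀ : H546.KB.Ker S M ⊕ IrrCharacter (A ⧸ L') → principalBlock M A :=
    Sum.elim (fun χ => ⟨χ.1, χ.2.1⟩) (fun ξ => ⟨⟨_, hprod ξ⟩, H546.KB.mul_mem hM (hlB ξ) (hlin ξ) hψ rfl⟩)
  have hcross : ∀ (χ : H546.KB.Ker S M) (ξ : IrrCharacter (A ⧸ L')), (χ.1 : A → ℂ) ≠ (l ξ : A → ℂ) * (ψ : A → ℂ) := by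
    intro χ χ' h
    apply hψne
    intro s hs
    rw [← hres χ' ⟨s, hs⟩, ← h]
    have h2 := hres χ' 1
    rw [← h] at h2
    exact (χ.2.2 s hs).trans h2
  have hinj : Function.Injective F₀ := by
    rintro (χ | χ) (χ' | χ') h
    · exact congrArg _ (Subtype.ext (congrArg (fun x : principalBlock M A => x.1) h))
    · exact absurd (congrArg (fun x : principalBlock M A => (x.1 : A → ℂ)) h) (hcross χ χ')
    · exact absurd (congrArg (fun x : principalBlock M A => (x.1 : A → ℂ)) h).symm (hcross χ' χ)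
    · have h2 : (l χ : A → ℂ) * (ψ : A → ℂ) = (l χ' : A → ℂ) * (ψ : A → ℂ) :=
        congrArg (fun x : principalBlock M A => (x.1 : A → ℂ)) h
      congr 1
      apply H686.CharKit.infl_injective L'
      show l χ = l χ'
      apply Subtype.ext
      funext g
      -- the coset of `g`
      obtain ⟨s, hs⟩ : ∃ s : ↥S, (ψ : A → ℂ) (s * g) ≠ 0 := by
        by_contra hcon
        push Not at hcon
        have h3 := CharactersDeep.CosetAverage.cosetAverage_self S (ψ : A → ℂ) ψ.2 hirr g
        rw [Finset.sum_eq_zero (fun n _ => by rw [hcon n, zero_mul]), mul_zero] at h3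
        exact zero_ne_one h3
      have h3 := congrFun h2 (s * g)
      rw [Pi.mul_apply, Pi.mul_apply] at h3
      have h4 := mul_right_cancel₀ hs h3
      rwa [H686.CharKit.apply_mul_of_eq (isIrr_isCharacter (l χ).2) (hlL χ s (hSL s.2)),
        H686.CharKit.apply_mul_of_eq (isIrr_isCharacter (l χ').2) (hlL χ' s (hSL s.2))] at h4
  have h := H546.KB.count S hM F₀ hinj
    {Quotient.mk (orbSetoid M S) ⟨⟨fun _ => 1, Blocks.Basic.isIrrCharacter_one⟩,
      Blocks.PrincipalSection.one_mem_principalBlock⟩,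
     Quotient.mk (orbSetoid M S) ⟨⟨_, hirr⟩, H685.Alperin.restrict_mem hM hψ hirr⟩} (by
    rintro (χ | χ) θ ho
    · refine Finset.mem_insert.2 (Or.inl ?_)
      congr 1
      apply Subtype.ext
      apply Subtype.ext
      exact H546.KB.over_one S χ.2.2 ho
    · refine Finset.mem_insert.2 (Or.inr (Finset.mem_singleton.2 ?_))
      congr 1
      apply Subtype.ext
      apply Subtype.ext
      have h2 : (fun s : ↥S => ((F₀ (Sum.inr χ)).1 : A → ℂ) s) = fun s : ↥S => (ψ : A → ℂ) s :=
        funext fun s => hres χ s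
      have h3 := H546.KB.over_irr S (χ := (F₀ (Sum.inr χ)).1) (θ := θ.1) (by rw [h2]; exact hirr) ho
      rw [h3, h2])
  rw [Nat.card_sum] at h
  have h4 : Nat.card (H546.KB.Ker S M) = ker M S := rfl
  rw [h4] at h
  have h5 := h.trans (Nat.add_le_add_left Finset.card_le_two _)
  have h6 := index_le_irr L' hc'
  omega

/-- **the criterion with an invariant extendible character** -/
theorem good_of_orb_rho (hM : IsPModular p M) (hcop : ¬ p ∣ S.index) (L : Subgroup A)
    (hcomm : ∀ a b : A, a * b * a⁻¹ * b⁻¹ ∈ L) (h : p + 3 ≤ 2 * orb M S L)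
    (ψ : IrrCharacter A) (hψ : ψ ∈ principalBlock M A)
    (hirr : IsIrrCharacter S (fun s : S => (ψ : A → ℂ) s)) (hψ1 : ∃ s : S, (ψ : A → ℂ) s ≠ 1) : Good M S p := by
  classical
  have hMp : M.IsPrime := isPrime_of_isPModular hM
  have hfin2 : Finite (IrrCharacter ↥S) := finite_irr
  have hfin3 : Finite (Quotient (orbSetoid M S)) := Finite.of_surjective _ Quotient.mk_surjective
  have h1 := index_le_ker S hM hcop L hcomm
  have h2 := ker_add_index_add_kap_le S hM hcop L hcomm ψ hψ hirr hψ1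
  set a := (L ⊔ hull p S).index with ha
  set q₁ : Quotient (orbSetoid M S) := Quotient.mk (orbSetoid M S) ⟨⟨fun _ => 1, Blocks.Basic.isIrrCharacter_one⟩,
      Blocks.PrincipalSection.one_mem_principalBlock⟩ with hq₁
  set q₂ : Quotient (orbSetoid M S) := Quotient.mk (orbSetoid M S)
    ⟨⟨_, hirr⟩, H685.Alperin.restrict_mem hM hψ hirr⟩ with hq₂
  have hne : q₁ ≠ q₂ := by
    intro h3
    obtain ⟨g, hg⟩ := Quotient.exact h3
    obtain ⟨s, hs⟩ := hψ1
    exact hs (hg s)
  have hcard : ({q₁, q₂} : Finset (Quotient (orbSetoid M S))).card = 2 := Finset.card_pair hne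
  have hκ : 2 ≤ kap M S := by
    have hfq : Fintype (Quotient (orbSetoid M S)) := Fintype.ofFinite _
    rw [← hcard, kap, Nat.card_eq_fintype_card]
    exact Finset.card_le_univ _
  have h3 := card_quot_le_mul S hM hcop L hcomm _ rfl {q₁, q₂} (by
    intro θ hθ g
    rw [Finset.mem_insert, Finset.mem_singleton] at hθ
    have key : ∀ s : ↥S, (θ.1 : ↥S → ℂ) (MulAut.conjNormal g s) = (θ.1 : ↥S → ℂ) s := by
      rcases hθ with hθ | hθ
      · obtain ⟨a, ha⟩ := Quotient.exact hθ
        have h3 : ∀ s : ↥S, (θ.1 : ↥S → ℂ) s = 1 := by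
          intro s
          have h4 := ha ((MulAut.conjNormal a).symm s)
          rw [MulEquiv.apply_symm_apply] at h4
          exact h4.symm
        intro s
        rw [h3, h3]
      · obtain ⟨a, ha⟩ := Quotient.exact hθ
        have hcl := isCharacter_isClassFunction (isIrr_isCharacter ψ.2)
        have h3 : ∀ s : ↥S, (θ.1 : ↥S → ℂ) s = (ψ : A → ℂ) s := by
          intro s
          have h4 := ha ((MulAut.conjNormal a).symm s)
          rw [MulEquiv.apply_symm_apply] at h4
          change (ψ : A → ℂ) ((MulAut.conjNormal a).symm s : ↥S) = _ at h4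
          rw [← h4]
          have h5 : (((MulAut.conjNormal a).symm s : ↥S) : A) = a⁻¹ * s * a⁻¹⁻¹ := by
            rw [inv_inv]
            exact MulAut.conjNormal_symm_apply a s
          rw [h5]
          exact hcl _ _
        intro s
        rw [h3, h3, MulAut.conjNormal_apply]
        exact hcl _ _
    exact Subtype.ext (funext key))
  rw [hcard] at h3
  have hgood : GoodN p (kB M A - (ker M S - a)) a (kap M S) :=
    H270.KB.ar2 (k := orb M S L) h h3 (by omega) hκ
  intro t g n ht hf hn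
  refine hgood t g n ht (h1.trans hf) ?_
  omega

end normal

/-! ### transport to `Aut(S)` -/

theorem orb_map_inj {Γ : Type u} {Γ' : Type v} [Group Γ] [Group Γ'] (φ : Γ →* Γ') (hφ : Function.Injective φ)
    (M : Ideal AlgInt) (N C : Subgroup Γ) : orb M (N.map φ) (C.map φ) = orb M N C := by
  unfold orb
  symm
  let eN : ↥N ≃* ↥(N.map φ) := N.equivMapOfInjective φ hφ
  have hval : ∀ x : ↥N, ((eN x : ↥(N.map φ)) : Γ') = φ x := fun _ => rfl
  let E : ↥(principalBlock M ↥N) ≃ ↥(principalBlock M ↥(N.map φ)) :=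
    (H649.irrEquiv eN).subtypeEquiv fun χ => by
      show χ ∈ principalBlock M ↥N ↔ H649.irrMap eN χ ∈ principalBlock M ↥(N.map φ)
      rw [← H649.blkMap_principalBlock eN, H649.irrMap_mem_blkMap]
  have hE : ∀ (θ : ↥(principalBlock M ↥N)) (x : ↥N),
      ((E θ : IrrCharacter ↥(N.map φ)) : ↥(N.map φ) → ℂ) (eN x) =
        ((θ : IrrCharacter ↥N) : ↥N → ℂ) x := fun θ x => H649.irrMap_apply' eN θ x
  refine Nat.card_congr (Quot.congr E fun θ θ' => ?_)
  constructor
  · rintro ⟨c, hc, h⟩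
    refine ⟨φ c, mem_map_of_mem _ hc, fun x y hxy => ?_⟩
    obtain ⟨x, rfl⟩ := eN.surjective x
    obtain ⟨y, rfl⟩ := eN.surjective y
    rw [hE, hE]
    refine h x y (hφ ?_)
    rw [hval, hval] at hxy
    rw [hxy, map_mul, map_mul, map_inv]
  · rintro ⟨_, ⟨c, hc, rfl⟩, h⟩
    refine ⟨c, hc, fun x y hxy => ?_⟩
    have h1 := h (eN x) (eN y) (by
      rw [hval, hval, hxy, map_mul, map_mul, map_inv])
    rwa [hE, hE] at h1

section transport

variable {S : Type u} [Group S] {A : Type u} [Group A] {T : Subgroup A} [T.Normal]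

/-- the homomorphism of `A` into the automorphism group of `S` -/
def toAut (e : S ≃* ↥T) : A →* MulAut S := (MulAut.congr e.symm).toMonoidHom.comp MulAut.conjNormal

theorem toAut_apply (e : S ≃* ↥T) (a : A) (s : S) : toAut e a s = e.symm (MulAut.conjNormal a (e s)) := rfl

theorem toAut_injective (e : S ≃* ↥T) (hc : centralizer (T : Set A) = ⊥) : Function.Injective (toAut e) := by
  rw [injective_iff_map_eq_one]
  intro a ha
  have h1 : a ∈ centralizer (T : Set A) := by
    rw [mem_centralizer_iff]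
    intro t ht
    have h2 := congrArg (fun f : MulAut S => f (e.symm ⟨t, ht⟩)) ha
    change toAut e a (e.symm ⟨t, ht⟩) = e.symm ⟨t, ht⟩ at h2
    rw [toAut_apply, e.apply_symm_apply] at h2
    have h3 := congrArg Subtype.val (e.symm.injective h2)
    rw [MulAut.conjNormal_apply] at h3
    change a * t * a⁻¹ = t at h3
    exact (mul_inv_eq_iff_eq_mul.1 h3).symm
  rw [hc] at h1
  exact (mem_bot.1 h1)

theorem toAut_map (e : S ≃* ↥T) : T.map (toAut e) = Inn S := by
  have h : ∀ t : ↥T, toAut e t = MulAut.conj (e.symm t) := by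
    intro t
    apply MulEquiv.ext
    intro x
    rw [toAut_apply, MulAut.conj_apply]
    apply e.injective
    rw [e.apply_symm_apply, map_mul, map_mul, map_inv, e.apply_symm_apply]
    apply Subtype.ext
    rw [MulAut.conjNormal_apply]
    rfl
  ext a
  constructor
  · rintro ⟨t, ht, rfl⟩
    exact ⟨e.symm ⟨t, ht⟩, (h ⟨t, ht⟩).symm⟩
  · rintro ⟨s, rfl⟩
    refine ⟨e s, (e s).2, ?_⟩
    rw [h, e.symm_apply_apply]

variable [Finite A] {p : ℕ} [Fact p.Prime] {M : Ideal AlgInt}

theorem adm_range (e : S ≃* ↥T) (hc : centralizer (T : Set A) = ⊥) (hcop : ¬ p ∣ T.index) :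
    Adm p S (toAut e).range := by
  refine ⟨?_, ?_⟩
  · rw [← toAut_map e]
    exact Subgroup.map_le_range _ _
  · rw [← toAut_map e, MonoidHom.range_eq_map, Subgroup.relIndex_map_map_of_injective _ _ (toAut_injective e hc)]
    rwa [Subgroup.relIndex_top_right]

theorem orb_comap (e : S ≃* ↥T) (hc : centralizer (T : Set A) = ⊥) (L : Subgroup (MulAut S)) :
    orb M T (L.comap (toAut e)) = orb M (Inn S) ((toAut e).range ⊓ L) := by
  rw [← orb_map_inj (toAut e) (toAut_injective e hc), toAut_map, Subgroup.map_comap_eq]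

end transport

section rows

variable {S : Type u} [Group S] {p : ℕ} [Fact p.Prime] {M : Ideal AlgInt}

/-- **criterion 1 (`μ ≥ p`)**, in the framework of `H508.KB` -/
theorem kbRow_of_mu (hM : IsPModular p M) (L : Subgroup (MulAut S)) (hL : Big S L)
    (h : ∀ X : Subgroup (MulAut S), Adm p S X → p ≤ orb M (Inn S) (X ⊓ L)) : H508.KB.Row p M S := by
  rintro A _ _ T _ ⟨e⟩ hc hcop
  refine good_of_orb T hM hcop (L.comap (toAut e)) (fun a b => ?_) ?_
  · rw [Subgroup.mem_comap, map_mul, map_mul, map_mul, map_inv, map_inv]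
    exact hL.2 _ _
  · rw [orb_comap e hc]
    exact h _ (adm_range e hc hcop)

/-- **criterion 2 (`μ ≥ (p + 3) / 2` and an extension)**, in the framework of `H508.KB` -/
theorem kbRow_of_mu_ext (hM : IsPModular p M) (L : Subgroup (MulAut S)) (hL : Big S L)
    (hext : H508.KB.ExtB p M S)
    (h : ∀ X : Subgroup (MulAut S), Adm p S X → p + 3 ≤ 2 * orb M (Inn S) (X ⊓ L)) : H508.KB.Row p M S := by
  rintro A _ _ T _ ⟨e⟩ hc hcop
  have hinj : Function.Injective (T.subtype.comp e.toMonoidHom) := T.subtype_injective.comp e.injective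
  have hr : (T.subtype.comp e.toMonoidHom).range = T := by
    ext x
    constructor
    · rintro ⟨s, rfl⟩
      exact (e s).2
    · intro hx
      exact ⟨e.symm ⟨x, hx⟩, by simp⟩
  obtain ⟨ψ, hψ, hψ2, s, hs⟩ := hext A (T.subtype.comp e.toMonoidHom) hinj (by rw [hr]; infer_instance) (by rw [hr]; exact hc)
    (by rw [hr]; exact hcop)
  refine good_of_orb_rho T hM hcop (L.comap (toAut e)) (fun a b => ?_) ?_ ψ hψ ?_ ⟨e s, hs⟩
  · rw [Subgroup.mem_comap, map_mul, map_mul, map_mul, map_inv, map_inv]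
    exact hL.2 _ _
  · rw [orb_comap e hc]
    exact h _ (adm_range e hc hcop)
  · have h1 := (H649.irrEquiv e) ⟨_, hψ2⟩
    have h2 := isIrr_comp e.symm.toMonoidHom e.symm.surjective hψ2
    have h3 : (fun s : ↥T => (ψ : A → ℂ) s) =
        fun n => (fun s => (ψ : A → ℂ) ((T.subtype.comp e.toMonoidHom) s)) (e.symm.toMonoidHom n) := by
      funext t
      show (ψ : A → ℂ) t = (ψ : A → ℂ) (e (e.symm t) : ↥T)
      rw [e.apply_symm_apply]
    rw [h3]
    exact h2

end rows

end Cfsg.Agent.H617.Pb
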