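import Cfsg.Prelude.Def_Blocks
import Cfsg.Prelude.Def_BlockRank
import Mathlib.Algebra.Group.End
import Mathlib.Algebra.Group.Subgroup.Basic
import Mathlib.GroupTheory.Index
import Mathlib.Data.ZMod.Units
import Mathlib.GroupTheory.Subgroup.Centralizer

/-!
S4822: interface.  Everything lives in an ambient group `Γ` with subgroups `N ≤ C`, `C` normalising `N`.

* `k0 M G`      : number of irreducible characters in the principal block;
* `orb M N C`   : number of `C`-orbits on `Irr(B₀(N))`;
* `Br p M N`    : the span of the restrictions to `p`-regular elements of `Irr(B₀(N))`;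
* `eps p M N C` : the dimension of the `C`-invariants of `Br p M N`;
* `Row p S`     : the statement about the simple group `S`.
-/

set_option autoImplicit false
open Cfsg

namespace Cfsg.Agent.H617.Pb

universe u v w

/-- the number of irreducible characters in the principal block -/
noncomputable def k0 (M : Ideal AlgInt) (G : Type u) [Group G] : ℕ := Nat.card (principalBlock M G)

variable {Γ : Type u} [Group Γ]

/-- the number of `C`-orbits on the irreducible characters of `B₀(N)` -/
noncomputable def orb (M : Ideal AlgInt) (N C : Subgroup Γ) : ℕ :=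
  Nat.card (Quot (fun θ θ' : ↥(principalBlock M ↥N) =>
    ∃ c ∈ C, ∀ x y : ↥N, (y : Γ) = c * x * c⁻¹ →
      ((θ' : IrrCharacter ↥N) : ↥N → ℂ) y = ((θ : IrrCharacter ↥N) : ↥N → ℂ) x))

/-- the span of the restrictions to the `p`-regular elements of the characters of the principal block -/
noncomputable def Br (p : ℕ) (M : Ideal AlgInt) (N : Subgroup Γ) : Submodule ℂ (↥N → ℂ) :=
  Submodule.span ℂ ((fun χ : IrrCharacter ↥N => pRegularPart p (χ : ↥N → ℂ)) '' principalBlock M ↥N)

/-- the `C`-invariant functions in `Br p M N` -/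
noncomputable def Inv (p : ℕ) (M : Ideal AlgInt) (N C : Subgroup Γ) : Submodule ℂ (↥N → ℂ) where
  carrier := {f | f ∈ Br p M N ∧ ∀ c ∈ C, ∀ x y : ↥N, (y : Γ) = c * x * c⁻¹ → f y = f x}
  add_mem' := fun {a b} ha hb =>
    ⟨(Br p M N).add_mem ha.1 hb.1, fun c hc x y h => by
      simp only [Pi.add_apply]; rw [ha.2 c hc x y h, hb.2 c hc x y h]⟩
  zero_mem' := ⟨(Br p M N).zero_mem, fun _ _ _ _ _ => rfl⟩
  smul_mem' := fun r {a} ha =>
    ⟨(Br p M N).smul_mem r ha.1, fun c hc x y h => by
      simp only [Pi.smul_apply]; rw [ha.2 c hc x y h]⟩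

/-- the dimension of the `C`-invariant functions in `Br p M N` -/
noncomputable def eps (p : ℕ) (M : Ideal AlgInt) (N C : Subgroup Γ) : ℕ :=
  Module.finrank ℂ ↥(Inv p M N C)

/-- the inner automorphisms -/
abbrev Inn (S : Type u) [Group S] : Subgroup (MulAut S) := (MulAut.conj : S →* MulAut S).range

/-- `A` is an almost simple group of `p'`-index over `S` -/
def Adm (p : ℕ) (S : Type u) [Group S] (A : Subgroup (MulAut S)) : Prop :=
  Inn S ≤ A ∧ ¬ p ∣ (Inn S).relIndex A

/-- **the row of `S`** -/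
def Row (p : ℕ) (S : Type u) [Group S] : Prop :=
  ∀ M : Ideal AlgInt, IsPModular p M → ∀ A : Subgroup (MulAut S), Adm p S A →
    4 * (p - 1) ≤ k0 M ↥A ^ 2 ∧
    ∃ L : Subgroup (MulAut S), Inn S ≤ L ∧ L ≤ A ∧ (∀ a ∈ A, ∀ b ∈ A, a * b * a⁻¹ * b⁻¹ ∈ L) ∧
      4 * (p - 1) ≤ orb M (Inn S) L ^ 2

/-- automorphisms of `S` fixing `u`: `C_X(u)`, and the inner ones `C_S(u)` -/
abbrev Cen {S : Type u} [Group S] (X : Subgroup (MulAut S)) (u : S) : Subgroup (MulAut S) :=
  X ⊓ Subgroup.centralizer {MulAut.conj u}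

/-- **local information at `u`**: for every admissible `X` contained in `L`, the `C_X(u)`-invariants in the
Brauer functions of `B₀(C_S(u))` have dimension at least `ε` -/
def Loc (p : ℕ) {S : Type u} [Group S] (L : Subgroup (MulAut S)) (u : S) (ε : ℕ) : Prop :=
  ∀ M : Ideal AlgInt, IsPModular p M → ∀ X : Subgroup (MulAut S), Adm p S X → X ≤ L →
    ε ≤ eps p M (Cen (Inn S) u) (Cen X u)

/-- **the automizer of `⟨u⟩` in `L` has order at most `e`** -/
def AutLe (p : ℕ) {S : Type u} [Group S] (L : Subgroup (MulAut S)) (u : S) (e : ℕ) : Prop :=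
  Nat.card {k : (ZMod p)ˣ // ∃ a ∈ L, a u = u ^ (k : ZMod p).val} ≤ e

/-- **the data of `S` relative to `L`**: elements `u i` of order `p` of `S`, no two of them have conjugate powers
under `L`, automizers of order at most `e i`, local information `ε i`, of total weight at least `w` -/
structure Data (p : ℕ) (S : Type u) [Group S] (L : Subgroup (MulAut S)) (w : ℚ) where
  /-- number of elements -/
  n : ℕ
  /-- the elements -/
  u : Fin n → S
  /-- bounds for the automizers -/
  e : Fin n → ℕ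
  /-- local information -/
  ε : Fin n → ℕ
  ord : ∀ i, orderOf (u i) = p
  sep : ∀ i j, ∀ a ∈ L, ∀ k : ℕ, a (u i) = u j ^ k → i = j
  epos : ∀ i, 0 < e i
  aut : ∀ i, AutLe p L (u i) (e i)
  loc : ∀ i, Loc p L (u i) (ε i)
  sum : w ≤ ∑ i, (ε i : ℚ) / e i

/-- `L` is large enough: it contains the inner automorphisms and `Aut S / L` is abelian -/
def Big (S : Type u) [Group S] (L : Subgroup (MulAut S)) : Prop :=
  Inn S ≤ L ∧ ∀ a b : MulAut S, a * b * a⁻¹ * b⁻¹ ∈ L

/-- **rho-data**: some nontrivial `θ ∈ B₀(S)` extends to `B₀(A)`, for every admissible `A` -/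
def Rho (p : ℕ) (S : Type u) [Group S] : Prop :=
  ∀ M : Ideal AlgInt, IsPModular p M → ∀ A : Subgroup (MulAut S), Adm p S A →
    ∃ χ ∈ principalBlock M ↥A, ∃ θ ∈ principalBlock M ↥(Inn S),
      (∃ x, (θ : ↥(Inn S) → ℂ) x ≠ 1) ∧
      ∀ (x : ↥A) (y : ↥(Inn S)), (x : MulAut S) = y → (χ : ↥A → ℂ) x = (θ : ↥(Inn S) → ℂ) y

end Cfsg.Agent.H617.Pb
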